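import Cfsg.Agent.H756.PU.Stmts

/-!
# S5258: coordinates of `UG K` modulo `Z` and modulo `Z₂` (helper339)
-/

set_option autoImplicit false

namespace Cfsg.Agent.H339.PU

open Cfsg Cfsg.FusionSystem Cfsg.Agent.H756.PU

universe u

section
variable {K : Type u} [Field K] [StarRing K]

theorem mul_inv_mem_ZS {x y : UG K} :
    x * y⁻¹ ∈ ZS K ↔ x.r = y.r ∧ x.u1 = y.u1 ∧ x.u2 = y.u2 ∧ x.b = y.b ∧ x.c = y.c := by
  constructor
  · intro h
    have e : x = (x * y⁻¹) * y := by group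
    obtain ⟨h1, h2, h3, h4, h5⟩ := h
    generalize hz : x * y⁻¹ = z at e h1 h2 h3 h4 h5
    rw [e]
    simp [UG.mul_b, h1, h2, h3, h4, h5]
  · rintro ⟨h1, h2, h3, h4, h5⟩
    have hy := y.hc
    refine ⟨?_, ?_, ?_, ?_, ?_⟩
    · simp [h1]
    · simp only [UG.mul_u1, UG.inv_u1, UG.inv_u2, h1, h2]; ring
    · simp [h3]
    · simp only [UG.mul_b, UG.inv_b, UG.inv_c, UG.inv_u2, UG.d, star_sub, star_neg, star_star, star_mul', h1, h2, h4]
      ring
    · simp only [UG.mul_c, UG.inv_c, UG.inv_u2, star_neg, h3, h5]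
      linear_combination hy

theorem mul_inv_mem_Z2 {x y : UG K} :
    x * y⁻¹ ∈ Z2 K ↔ x.r = y.r ∧ x.u1 = y.u1 ∧ x.u2 = y.u2 ∧ x.c = y.c := by
  constructor
  · intro h
    have e : x = (x * y⁻¹) * y := by group
    obtain ⟨h1, h2, h3, h5⟩ := h
    generalize hz : x * y⁻¹ = z at e h1 h2 h3 h5
    rw [e]
    simp [h1, h2, h3, h5]
  · rintro ⟨h1, h2, h3, h5⟩
    have hy := y.hc
    refine ⟨?_, ?_, ?_, ?_⟩
    · simp [h1]
    · simp only [UG.mul_u1, UG.inv_u1, UG.inv_u2, h1, h2]; ring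
    · simp [h3]
    · simp only [UG.mul_c, UG.inv_c, UG.inv_u2, star_neg, h3, h5]
      linear_combination hy

theorem comm_eq (g m : UG K) : g * m * g⁻¹ * m⁻¹ = (g * m) * (m * g)⁻¹ := by group

/-- `[g, m] ∈ Z` -/
theorem comm_mem_ZS {g m : UG K} :
    g * m * g⁻¹ * m⁻¹ ∈ ZS K ↔ g.r * m.u2 = m.r * g.u2 ∧
      g.r * m.c - g.u1 * star m.u2 = m.r * g.c - m.u1 * star g.u2 ∧ g.u2 * star m.u2 = m.u2 * star g.u2 := by
  rw [comm_eq, mul_inv_mem_ZS]
  simp only [UG.mul_r, UG.mul_u1, UG.mul_u2, UG.mul_b, UG.mul_c]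
  constructor
  · rintro ⟨-, h2, -, h4, h5⟩
    exact ⟨by linear_combination h2, by linear_combination h4, by linear_combination -h5⟩
  · rintro ⟨h2, h4, h5⟩
    exact ⟨by ring, by linear_combination h2, by ring, by linear_combination h4, by linear_combination -h5⟩

/-- `[g, m] ∈ Z₂` -/
theorem comm_mem_Z2 {g m : UG K} :
    g * m * g⁻¹ * m⁻¹ ∈ Z2 K ↔ g.r * m.u2 = m.r * g.u2 ∧ g.u2 * star m.u2 = m.u2 * star g.u2 := by
  rw [comm_eq, mul_inv_mem_Z2]
  simp only [UG.mul_r, UG.mul_u1, UG.mul_u2, UG.mul_c]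
  constructor
  · rintro ⟨-, h2, -, h5⟩
    exact ⟨by linear_combination h2, by linear_combination -h5⟩
  · rintro ⟨h2, h5⟩
    exact ⟨by ring, by linear_combination h2, by ring, by linear_combination -h5⟩

/-- `[S, S] ≤ Y` -/
theorem comm_mem_YY (g m : UG K) : g * m * g⁻¹ * m⁻¹ ∈ YY K := by
  refine ⟨?_, ?_⟩
  · simp
  · simp

/-- `[g, m] ∈ Z` for `m ∈ Y` -/
theorem comm_mem_ZS_of_YY {g m : UG K} (hm : m ∈ YY K) :
    g * m * g⁻¹ * m⁻¹ ∈ ZS K ↔ g.r * m.c + m.u1 * star g.u2 = 0 := by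
  obtain ⟨h1, h2⟩ := hm
  rw [comm_mem_ZS]
  simp only [h1, h2, mul_zero, zero_mul, star_zero, sub_zero, zero_sub, true_and, and_true]
  constructor
  · intro h; linear_combination h
  · intro h; linear_combination h

/-- `[S, Y] ≤ Z₂` -/
theorem comm_mem_Z2_of_YY {g m : UG K} (hm : m ∈ YY K) : g * m * g⁻¹ * m⁻¹ ∈ Z2 K := by
  obtain ⟨h1, h2⟩ := hm
  rw [comm_mem_Z2]
  simp [h1, h2]

theorem ZS_le_Z2 : ZS K ≤ Z2 K := fun _ h => ⟨h.1, h.2.1, h.2.2.1, h.2.2.2.2⟩
theorem Z2_le_VV : Z2 K ≤ VV K := fun _ h => ⟨h.1, h.2.1, h.2.2.1⟩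
theorem VV_le_YY : VV K ≤ YY K := fun _ h => ⟨h.1, h.2.2⟩
theorem Z2_le_YY : Z2 K ≤ YY K := Z2_le_VV.trans VV_le_YY
theorem VV_le_Q2 : VV K ≤ Q2 K := fun _ h => h.1
theorem YY_le_Q2 : YY K ≤ Q2 K := fun _ h => h.1
theorem YY_le_QV : YY K ≤ QV K := fun _ h => h.2

/-- a subgroup containing `Y` is normal -/
theorem le_normalizer_of_YY_le {E : Subgroup (UG K)} (hE : YY K ≤ E) :
    (⊤ : Subgroup (UG K)) ≤ Subgroup.normalizer (E : Set (UG K)) := by
  intro s _
  rw [Subgroup.mem_normalizer_iff]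
  intro e
  constructor
  · intro he
    have : s * e * s⁻¹ = (s * e * s⁻¹ * e⁻¹) * e := by group
    rw [this]
    exact E.mul_mem (hE (comm_mem_YY s e)) he
  · intro he
    have h2 := hE (comm_mem_YY s⁻¹ (s * e * s⁻¹))
    have : e = (s⁻¹ * (s * e * s⁻¹) * s⁻¹⁻¹ * (s * e * s⁻¹)⁻¹) * (s * e * s⁻¹) := by group
    rw [this]
    exact E.mul_mem h2 he

end

/-! ### The field -/

section
variable {K : Type u} [Field K] [StarRing K] {p n : ℕ}

theorem one_lt_q (h : HypK K p n) : 1 < p ^ n := Nat.one_lt_pow (Nat.one_le_iff_ne_zero.1 h.hn) h.pp.one_lt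

theorem q_lt_card (h : HypK K p n) : p ^ n < Nat.card K := by
  rw [h.card]
  nlinarith [one_lt_q h]

/-- a polynomial `x ^ q + ε x` has at most `q` roots -/
theorem card_root_le (h : HypK K p n) (ε : K) : Nat.card {x : K // x ^ (p ^ n) + ε * x = 0} ≤ p ^ n := by
  classical
  have hq := one_lt_q h
  let f : Polynomial K := Polynomial.X ^ (p ^ n) + Polynomial.C ε * Polynomial.X
  have hd : f.natDegree = p ^ n := by
    have : (Polynomial.C ε * Polynomial.X : Polynomial K).natDegree < (Polynomial.X ^ (p ^ n) : Polynomial K).natDegree := by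
      rw [Polynomial.natDegree_X_pow]
      exact lt_of_le_of_lt ((Polynomial.natDegree_C_mul_le ε _).trans Polynomial.natDegree_X_le) hq
    show (Polynomial.X ^ (p ^ n) + Polynomial.C ε * Polynomial.X : Polynomial K).natDegree = p ^ n
    rw [Polynomial.natDegree_add_eq_left_of_natDegree_lt this, Polynomial.natDegree_X_pow]
  have hf : f ≠ 0 := by
    intro h0
    rw [h0, Polynomial.natDegree_zero] at hd
    omega
  have hsub : ∀ x : {x : K // x ^ (p ^ n) + ε * x = 0}, (x : K) ∈ f.roots.toFinset := by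
    rintro ⟨x, hx⟩
    rw [Multiset.mem_toFinset, Polynomial.mem_roots hf]
    show Polynomial.eval x f = 0
    simpa [f] using hx
  have hinj : Function.Injective (fun x : {x : K // x ^ (p ^ n) + ε * x = 0} => (⟨x.1, hsub x⟩ : f.roots.toFinset)) := by
    intro a b hab
    exact Subtype.ext (by simpa using congrArg Subtype.val hab)
  calc Nat.card {x : K // x ^ (p ^ n) + ε * x = 0} ≤ Nat.card f.roots.toFinset := Nat.card_le_card_of_injective _ hinj
    _ = f.roots.toFinset.card := by rw [Nat.card_eq_fintype_card, Fintype.card_coe]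
    _ ≤ f.roots.card := Multiset.toFinset_card_le _
    _ ≤ f.natDegree := Polynomial.card_roots' f
    _ = p ^ n := hd

theorem exists_not_root (h : HypK K p n) (ε : K) : ∃ x : K, x ^ (p ^ n) + ε * x ≠ 0 := by
  by_contra hc
  push Not at hc
  have := h.fin
  have h1 := card_root_le h ε
  have h2 : Nat.card {x : K // x ^ (p ^ n) + ε * x = 0} = Nat.card K :=
    Nat.card_congr (Equiv.subtypeUnivEquiv hc)
  have := q_lt_card h
  omega

/-- an element of nonzero trace -/
theorem exists_tr_ne (h : HypK K p n) : ∃ t : K, t + star t ≠ 0 := by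
  obtain ⟨t, ht⟩ := exists_not_root h 1
  refine ⟨t, fun h0 => ht ?_⟩
  rw [← h.star_eq]
  linear_combination h0

/-- an element not fixed by `star` -/
theorem exists_star_ne (h : HypK K p n) : ∃ t : K, star t ≠ t := by
  obtain ⟨t, ht⟩ := exists_not_root h (-1)
  refine ⟨t, fun h0 => ht ?_⟩
  rw [← h.star_eq, h0]
  ring

/-- a nonzero element of trace `0` -/
theorem exists_tr_zero (h : HypK K p n) : ∃ c : K, c ≠ 0 ∧ c + star c = 0 := by
  obtain ⟨t, ht⟩ := exists_star_ne h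
  refine ⟨star t - t, sub_ne_zero.2 ht, ?_⟩
  simp only [star_sub, star_star]
  ring

/-- the trace is onto the fixed field -/
theorem exists_tr_eq (h : HypK K p n) {s : K} (hs : star s = s) : ∃ a : K, a + star a = s := by
  obtain ⟨t, ht⟩ := exists_tr_ne h
  refine ⟨s * t * (t + star t)⁻¹, ?_⟩
  have h1 : star (t + star t) = t + star t := by simp [add_comm]
  have h2 : star ((t + star t)⁻¹) = (t + star t)⁻¹ := by rw [star_inv₀, h1]
  rw [star_mul', star_mul', h2, hs]
  field_simp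

/-- elements of trace `0`: at most `q` -/
theorem card_tr_zero_le (h : HypK K p n) : Nat.card {c : K // c + star c = 0} ≤ p ^ n := by
  have := card_root_le h 1
  have e : Nat.card {c : K // c + star c = 0} = Nat.card {x : K // x ^ (p ^ n) + 1 * x = 0} := by
    apply Nat.card_congr
    apply Equiv.subtypeEquivRight
    intro x
    rw [h.star_eq, one_mul, add_comm]
  rw [e]
  exact this

/-- an element with prescribed coordinates -/
theorem exists_elt (h : HypK K p n) (r u1 b c : K) (hc : c + star c = 0) :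
    ∃ g : UG K, g.r = r ∧ g.u1 = u1 ∧ g.u2 = 0 ∧ g.b = b ∧ g.c = c := by
  obtain ⟨a, ha⟩ := exists_tr_eq h (s := -(u1 * star u1)) (by simp [mul_comm])
  exact ⟨{ r := r, u1 := u1, u2 := 0, a := a, b := b, c := c, ha := by rw [ha]; ring, hc := by simpa using hc },
    rfl, rfl, rfl, rfl, rfl⟩

end

end Cfsg.Agent.H339.PU
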