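import Cfsg.Agent.H339.PU.Coord

/-!
# S5258: statement (E3d) (helper339)
-/

set_option autoImplicit false

namespace Cfsg.Agent.H339.PU

open Cfsg Cfsg.FusionSystem Cfsg.Agent.H756.PU

universe u

section
variable {K : Type u} [Field K] [StarRing K]

/-- `Z` is central -/
theorem ZS_central {z : UG K} (hz : z ∈ ZS K) (g : UG K) : g * z = z * g := by
  obtain ⟨h1, h2, h3, h4, h5⟩ := hz
  ext
  · simp [h1]
  · simp [h1, h2, h3]
  · simp [h3]
  · simp [UG.mul_a, UG.d, h1, h2, h3, h4, h5, add_comm]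
  · simp [UG.mul_b, h1, h2, h3, h4, h5]
  · simp [h3, h5]

/-- the elements of `E` centralized by `E` modulo `Z` -/
def MH (E : Subgroup (UG K)) : Subgroup (UG K) where
  carrier := {m | m ∈ E ∧ ∀ e ∈ E, e * m * e⁻¹ * m⁻¹ ∈ ZS K}
  one_mem' := ⟨E.one_mem, fun e _ => by simp [(ZS K).one_mem]⟩
  mul_mem' := by
    rintro x y ⟨hx, hx'⟩ ⟨hy, hy'⟩
    refine ⟨E.mul_mem hx hy, fun e he => ?_⟩
    have h1 := hx' e he
    have h2 := hy' e he
    rw [comm_mem_ZS] at h1 h2 ⊢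
    obtain ⟨a1, a2, a3⟩ := h1
    obtain ⟨b1, b2, b3⟩ := h2
    simp only [UG.mul_r, UG.mul_u1, UG.mul_u2, UG.mul_c, star_add]
    refine ⟨by linear_combination a1 + b1, ?_, by linear_combination a3 + b3⟩
    linear_combination a2 + b2 - star y.u2 * a1 - x.r * b3
  inv_mem' := by
    rintro x ⟨hx, hx'⟩
    refine ⟨E.inv_mem hx, fun e he => ?_⟩
    have h1 := hx' e he
    rw [comm_mem_ZS] at h1 ⊢
    obtain ⟨a1, a2, a3⟩ := h1
    have hc := x.hc
    simp only [UG.inv_r, UG.inv_u1, UG.inv_u2, UG.inv_c, star_neg]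
    refine ⟨by linear_combination -a1, ?_, by linear_combination -a3⟩
    have hc' : star x.c = - x.c - x.u2 * star x.u2 := by linear_combination hc
    rw [hc']
    linear_combination -a2 - star x.u2 * a1 - x.r * a3

theorem mem_MH {E : Subgroup (UG K)} {m : UG K} :
    m ∈ MH E ↔ m ∈ E ∧ ∀ e ∈ E, e * m * e⁻¹ * m⁻¹ ∈ ZS K := Iff.rfl

theorem MH_le (E : Subgroup (UG K)) : MH E ≤ E := fun _ h => h.1

/-- `M^` is invariant -/
theorem inv_MH {E : Subgroup (UG K)} {Γ : Subgroup (MulAut E)} (hZ : Inv Γ (ZS K)) : Inv Γ (MH E) := by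
  refine ⟨MH_le E, fun γ hγ e he => ?_⟩
  refine ⟨(γ e).2, fun f hf => ?_⟩
  have h1 := he.2 ((γ⁻¹ ⟨f, hf⟩ : E) : UG K) (γ⁻¹ ⟨f, hf⟩ : E).2
  have h2 := hZ.2 γ hγ ((γ⁻¹ ⟨f, hf⟩ : E) * e * (γ⁻¹ ⟨f, hf⟩ : E)⁻¹ * e⁻¹) (by simpa using h1)
  have h3 : γ ((γ⁻¹ ⟨f, hf⟩ : E) * e * (γ⁻¹ ⟨f, hf⟩ : E)⁻¹ * e⁻¹) = ⟨f, hf⟩ * γ e * ⟨f, hf⟩⁻¹ * (γ e)⁻¹ := by
    have h4 : γ (γ⁻¹ ⟨f, hf⟩ : E) = ⟨f, hf⟩ := MulAut.apply_inv_self _ γ _
    rw [map_mul, map_mul, map_mul, map_inv, map_inv, h4]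
  rw [h3] at h2
  simpa using h2

/-- powers of elements of `Y` -/
theorem pow_YY {m : UG K} (hm : m ∈ YY K) (k : ℕ) :
    (m ^ k).r = 0 ∧ (m ^ k).u2 = 0 ∧ (m ^ k).u1 = k * m.u1 ∧ (m ^ k).b = k * m.b ∧ (m ^ k).c = k * m.c := by
  obtain ⟨h1, h2⟩ := hm
  induction k with
  | zero => simp
  | succ k ih =>
    obtain ⟨i1, i2, i3, i4, i5⟩ := ih
    rw [pow_succ]
    refine ⟨by simp [i1, h1], by simp [i2, h2], ?_, ?_, ?_⟩
    · simp only [UG.mul_u1, i1, i3, h2]; push_cast; ring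
    · simp only [UG.mul_b, i1, i3, i4, h2, star_zero]; push_cast; ring
    · simp only [UG.mul_c, i2, i5]; push_cast; ring

/-- the elements of `S` centralizing `M^` modulo `Z` (for `M^ ≤ Y`) -/
def CH (M : Subgroup (UG K)) : Subgroup (UG K) where
  carrier := {s | ∀ m ∈ M, s.r * m.c + m.u1 * star s.u2 = 0}
  one_mem' := by intro m _; simp
  mul_mem' := by
    intro x y hx hy m hm
    have h1 := hx m hm
    have h2 := hy m hm
    simp only [UG.mul_r, UG.mul_u2, star_add]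
    linear_combination h1 + h2
  inv_mem' := by
    intro x hx m hm
    have h1 := hx m hm
    simp only [UG.inv_r, UG.inv_u2, star_neg]
    linear_combination -h1

theorem mem_CH {M : Subgroup (UG K)} {s : UG K} :
    s ∈ CH M ↔ ∀ m ∈ M, s.r * m.c + m.u1 * star s.u2 = 0 := Iff.rfl

theorem MH_le_YY {p n : ℕ} (h : HypK K p n) {E : Subgroup (UG K)} (hE : YY K ≤ E) : MH E ≤ YY K := by
  intro m hm
  obtain ⟨e1, a1, a2, a3, a4, a5⟩ := exists_elt h 0 1 0 0 (by simp)
  obtain ⟨c0, hc0, hc0'⟩ := exists_tr_zero h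
  obtain ⟨e2, b1, b2, b3, b4, b5⟩ := exists_elt h 0 0 0 c0 hc0'
  have h1 := hm.2 e1 (hE ⟨a1, a3⟩)
  have h2 := hm.2 e2 (hE ⟨b1, b3⟩)
  rw [comm_mem_ZS] at h1 h2
  have k1 := h1.2.1
  have k2 := h2.2.1
  rw [a1, a2, a5, a3] at k1
  rw [b1, b2, b5, b3] at k2
  have k1' : m.u2 = 0 := by
    have : star m.u2 = 0 := by
      simp only [star_zero] at k1
      linear_combination -k1
    rw [← star_star m.u2, this, star_zero]
  have k2' : m.r * c0 = 0 := by
    simp only [star_zero] at k2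
    linear_combination -k2
  exact ⟨(mul_eq_zero.1 k2').resolve_right hc0, k1'⟩

end

theorem stE3d (hSec : StSec.{u}) : StE3d.{u} := by
  intro K _ _ p n h E Γ hEss hE hZ hQV
  have hfinS := hEss.fin
  have : Finite (UG K) := Finite.of_injective (fun g : UG K => (⟨g, Subgroup.mem_top g⟩ : (⊤ : Subgroup (UG K))))
    (fun a b hab => by simpa using hab)
  have := h.fin
  have := h.char
  have hMY : MH E ≤ YY K := MH_le_YY h hE
  have hZ2M : Z2 K ≤ MH E := by
    intro z hz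
    refine ⟨hE (Z2_le_YY hz), fun e _ => ?_⟩
    rw [comm_mem_ZS_of_YY (Z2_le_YY hz)]
    simp [hz.2.1, hz.2.2.2]
  by_cases hc : MH E ≤ Z2 K
  · have : MH E = Z2 K := le_antisymm hc hZ2M
    rw [← this]
    exact inv_MH hZ
  -- an element outside `Z₂`
  obtain ⟨g0, hg0, hg0u⟩ : ∃ g ∈ E, g.u2 ≠ 0 := by
    by_contra hcon
    push Not at hcon
    exact hQV fun g hg => hcon g hg
  have hsu : star g0.u2 ≠ 0 := fun h0 => hg0u (by rw [← star_star g0.u2, h0, star_zero])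
  -- `u1` is determined by `c`
  have hrho : ∀ m ∈ MH E, m.u1 = - (g0.r * (star g0.u2)⁻¹) * m.c := by
    intro m hm
    have h1 := (comm_mem_ZS_of_YY (hMY hm)).1 (hm.2 g0 hg0)
    field_simp
    linear_combination h1
  have htr : ∀ m ∈ MH E, star m.c = - m.c := by
    intro m hm
    have h1 := m.hc
    rw [(hMY hm).2] at h1
    linear_combination h1
  -- elements of `M^ ∖ Z₂`
  have hne : ∀ m ∈ MH E, m ∉ Z2 K → m.c ≠ 0 := by
    intro m hm hm2 h0
    apply hm2
    refine ⟨(hMY hm).1, ?_, (hMY hm).2, h0⟩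
    rw [hrho m hm, h0, mul_zero]
  have hprop : ∀ m ∈ MH E, m.c ≠ 0 → ∀ s : UG K, s.r * m.c + m.u1 * star s.u2 = 0 →
      ∀ m' ∈ MH E, s.r * m'.c + m'.u1 * star s.u2 = 0 := by
    intro m hm hm0 s hs m' hm'
    rw [hrho m' hm']
    rw [hrho m hm] at hs
    have h1 : m.c * (s.r - g0.r * (star g0.u2)⁻¹ * star s.u2) = 0 := by linear_combination hs
    have h2 := (mul_eq_zero.1 h1).resolve_left hm0
    linear_combination m'.c * h2
  refine hSec hEss (le_normalizer_of_YY_le hE) (ZS K) (MH E) (Z2 K) (CH (MH E)) hZ (inv_MH hZ) ZS_le_Z2 hZ2M ?_ ?_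
    le_top ?_ ?_ ?_ ?_ ?_ ?_
  · intro e he m hm
    exact hm.2 e he
  · intro m hm
    obtain ⟨i1, i2, i3, i4, i5⟩ := pow_YY (hMY hm) p
    have hp : (p : K) = 0 := CharP.cast_eq_zero K p
    exact ⟨i1, by rw [i3, hp, zero_mul], i2, by rw [i4, hp, zero_mul], by rw [i5, hp, zero_mul]⟩
  · intro e he m hm
    exact (comm_mem_ZS_of_YY (hMY hm)).1 (hm.2 e he)
  · intro s _
    rw [mem_CH]
    constructor
    · intro hs m hm
      exact (comm_mem_ZS_of_YY (hMY hm)).2 (hs m hm)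
    · intro hs m hm
      exact (comm_mem_ZS_of_YY (hMY hm)).1 (hs m hm)
  · intro s _ m hm
    exact comm_mem_Z2_of_YY (hMY hm)
  · intro s _ m hm
    rw [comm_mem_ZS_of_YY (Z2_le_YY hm)]
    simp [hm.2.1, hm.2.2.2]
  · intro s _ hs m hm hsm
    by_contra hm2
    exact hs (hprop m hm (hne m hm hm2) s ((comm_mem_ZS_of_YY (hMY hm)).1 hsm))
  · -- counting
    obtain ⟨m0, hm0, hm02⟩ := Set.not_subset.1 hc
    have hc0 := hne m0 hm0 hm02
    have h1 : (ZS K).relIndex (MH E) ≤ (p ^ n) ^ 3 := by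
      rw [Subgroup.relIndex, Subgroup.index]
      have key : Function.Injective (fun x : ↥(MH E) ⧸ (ZS K).subgroupOf (MH E) =>
          ((⟨(x.out : UG K).c, by rw [htr _ x.out.2]; ring⟩, (x.out : UG K).b) : {c : K // c + star c = 0} × K)) := by
        intro x y hxy
        simp only [Prod.mk.injEq, Subtype.mk.injEq] at hxy
        obtain ⟨k1, k2⟩ := hxy
        have hx := hMY x.out.2
        have hy := hMY y.out.2
        have hmem : (x.out : UG K) * (y.out : UG K)⁻¹ ∈ ZS K := by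
          rw [mul_inv_mem_ZS]
          refine ⟨by rw [hx.1, hy.1], ?_, by rw [hx.2, hy.2], k2, k1⟩
          rw [hrho _ x.out.2, hrho _ y.out.2, k1]
        have hmem2 : (x.out : UG K)⁻¹ * (y.out : UG K) ∈ ZS K := by
          have e1 : (x.out : UG K)⁻¹ * (y.out : UG K) = ((x.out : UG K) * (y.out : UG K)⁻¹)⁻¹ := by
            have := ZS_central hmem (y.out : UG K)
            have e2 : (x.out : UG K) = (y.out : UG K) * ((x.out : UG K) * (y.out : UG K)⁻¹) := by
              rw [this]; group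
            have e3 : (x.out : UG K)⁻¹ * (y.out : UG K) = ((y.out : UG K) * ((x.out : UG K) * (y.out : UG K)⁻¹))⁻¹ * (y.out : UG K) := by
              rw [← e2]
            rw [e3]; group
          rw [e1]
          exact (ZS K).inv_mem hmem
        rw [← x.out_eq', ← y.out_eq']
        apply Quotient.sound'
        rw [QuotientGroup.leftRel_apply]
        exact hmem2
      calc Nat.card (↥(MH E) ⧸ (ZS K).subgroupOf (MH E)) ≤ Nat.card ({c : K // c + star c = 0} × K) :=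
            Nat.card_le_card_of_injective _ key
        _ = Nat.card {c : K // c + star c = 0} * Nat.card K := Nat.card_prod _ _
        _ ≤ p ^ n * (p ^ n) ^ 2 := by
            rw [h.card]
            exact Nat.mul_le_mul_right _ (card_tr_zero_le h)
        _ = (p ^ n) ^ 3 := by ring
    have h2 : (p ^ n) ^ 2 ≤ (CH (MH E)).relIndex ⊤ := by
      rw [Subgroup.relIndex_top_right, Subgroup.index, ← h.card]
      choose f f1 f2 f3 f4 f5 using fun k : K => exists_elt h k 0 0 0 (by simp)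
      refine Nat.card_le_card_of_injective (fun k : K => (QuotientGroup.mk (f k) : UG K ⧸ CH (MH E))) ?_
      intro k k' hk
      have h3 : (f k)⁻¹ * f k' ∈ CH (MH E) := QuotientGroup.eq.1 hk
      have h4 := h3 m0 hm0
      simp only [UG.mul_r, UG.inv_r, UG.mul_u2, UG.inv_u2, f1, f3, neg_zero, add_zero, star_zero, mul_zero] at h4
      have h5 := (mul_eq_zero.1 h4).resolve_right hc0
      linear_combination -h5
    have hq := one_lt_q h
    have h3 : ∀ q : ℕ, 1 < q → q ^ 3 < (q ^ 2) ^ 2 := fun q hq => by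
      rw [← pow_mul]
      exact Nat.pow_lt_pow_right hq (by norm_num)
    calc (ZS K).relIndex (MH E) ≤ (p ^ n) ^ 3 := h1
      _ < ((p ^ n) ^ 2) ^ 2 := h3 _ hq
      _ ≤ ((CH (MH E)).relIndex ⊤) ^ 2 := Nat.pow_le_pow_left h2 2

end Cfsg.Agent.H339.PU

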